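/-
GL(3,2) as the permutations of the seven nonzero vectors preserving lines.
-/
import Mathlib

set_option autoImplicit false

namespace Cfsg.Agent.Lib.Golay.Struct.Fano

open Matrix

/-- The line relation on the seven nonzero vectors numbered `1, …, 7` (shifted by one). -/
def line (i j k : Fin 7) : Bool := (i.val + 1) ^^^ (j.val + 1) == k.val + 1

/-- The permutations preserving lines. -/
def lineGroup : Subgroup (Equiv.Perm (Fin 7)) where
  carrier := {σ | ∀ i j k, line (σ i) (σ j) (σ k) = line i j k}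
  one_mem' := fun _ _ _ => rfl
  mul_mem' := fun {σ τ} hσ hτ i j k => (hσ (τ i) (τ j) (τ k)).trans (hτ i j k)
  inv_mem' := fun {σ} hσ i j k => by
    have := hσ (σ⁻¹ i) (σ⁻¹ j) (σ⁻¹ k)
    simp only [Equiv.Perm.coe_inv, Equiv.apply_symm_apply] at this
    exact this.symm

theorem mem_lineGroup {σ : Equiv.Perm (Fin 7)} :
    σ ∈ lineGroup ↔ ∀ i j k, line (σ i) (σ j) (σ k) = line i j k := Iff.rfl

theorem line_facts : (∀ i j k k' : Fin 7, line i j k = true → line i j k' = true → k = k') ∧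
    line 0 1 2 = true ∧ line 0 3 4 = true ∧ line 1 3 5 = true ∧ line 2 3 6 = true := by
  decide +kernel

/-- The images of a basis. -/
def triple (σ : Equiv.Perm (Fin 7)) : Fin 7 × Fin 7 × Fin 7 := (σ 0, σ 1, σ 3)

theorem eq_of_triple {σ τ : Equiv.Perm (Fin 7)} (hσ : σ ∈ lineGroup) (hτ : τ ∈ lineGroup)
    (h : triple σ = triple τ) : σ = τ := by
  simp only [triple, Prod.mk.injEq] at h
  obtain ⟨h0, h1, h3⟩ := h
  obtain ⟨huniq, l2, l4, l5, l6⟩ := line_facts
  have step : ∀ i j k, line i j k = true → σ i = τ i → σ j = τ j → σ k = τ k := by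
    intro i j k hl hi hj
    refine huniq (σ i) (σ j) _ _ ?_ ?_
    · rw [hσ i j k, hl]
    · rw [hi, hj, hτ i j k, hl]
  have e2 := step 0 1 2 l2 h0 h1
  have e4 := step 0 3 4 l4 h0 h3
  have e5 := step 1 3 5 l5 h1 h3
  have e6 := step 2 3 6 l6 e2 h3
  refine Equiv.ext fun i => ?_
  fin_cases i <;> assumption

/-- The admissible images of a basis. -/
def bases : Finset (Fin 7 × Fin 7 × Fin 7) :=
  Finset.univ.filter fun t => t.1 ≠ t.2.1 ∧ t.1 ≠ t.2.2 ∧ t.2.1 ≠ t.2.2 ∧ line t.1 t.2.1 t.2.2 = false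

theorem card_bases : bases.card = 168 := by decide +kernel

theorem triple_mem {σ : Equiv.Perm (Fin 7)} (hσ : σ ∈ lineGroup) : triple σ ∈ bases := by
  simp only [bases, Finset.mem_filter, Finset.mem_univ, true_and, triple]
  refine ⟨σ.injective.ne (by decide), σ.injective.ne (by decide), σ.injective.ne (by decide), ?_⟩
  rw [hσ]
  decide

theorem card_lineGroup_le : Nat.card lineGroup ≤ 168 := by
  have h : Function.Injective fun σ : ↥lineGroup => (⟨triple σ.1, triple_mem σ.2⟩ : ↥bases) :=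
    fun σ τ e => Subtype.ext (eq_of_triple σ.2 τ.2 (congrArg Subtype.val e))
  refine (Nat.card_le_card_of_injective _ h).trans ?_
  rw [Nat.card_eq_fintype_card, Fintype.card_coe, card_bases]

/-- The vector with a given number. -/
def vecOf (n : ℕ) : Fin 3 → ZMod 2 := fun i => if n.testBit i.val then 1 else 0

/-- The number of a vector. -/
def numOf (v : Fin 3 → ZMod 2) : ℕ := (v 0).val + 2 * (v 1).val + 4 * (v 2).val

/-- The index of a nonzero vector. -/
def vecIdx (v : Fin 3 → ZMod 2) : Fin 7 := ⟨(numOf v - 1) % 7, Nat.mod_lt _ (by norm_num)⟩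

theorem vec_facts : (∀ v : Fin 3 → ZMod 2, v ≠ 0 → vecOf ((vecIdx v).val + 1) = v) ∧
    (∀ i : Fin 7, vecIdx (vecOf (i.val + 1)) = i ∧ vecOf (i.val + 1) ≠ 0) ∧
    (∀ i j k : Fin 7, line i j k = true ↔ vecOf (i.val + 1) + vecOf (j.val + 1) = vecOf (k.val + 1)) ∧
    (∀ c : Fin 3, ∃ i : Fin 7, vecOf (i.val + 1) = Pi.single c 1) := by
  decide +kernel

theorem mulVec_ne_zero (M : GL (Fin 3) (ZMod 2)) {v : Fin 3 → ZMod 2} (hv : v ≠ 0) :
    (M : Matrix (Fin 3) (Fin 3) (ZMod 2)) *ᵥ v ≠ 0 := by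
  intro h
  apply hv
  have := congrArg (fun w => ((M⁻¹ : GL (Fin 3) (ZMod 2)) : Matrix (Fin 3) (Fin 3) (ZMod 2)) *ᵥ w) h
  simpa [Matrix.mulVec_mulVec, ← Units.val_mul] using this

/-- The map on indices induced by a matrix. -/
def actFun (M : GL (Fin 3) (ZMod 2)) (i : Fin 7) : Fin 7 :=
  vecIdx ((M : Matrix (Fin 3) (Fin 3) (ZMod 2)) *ᵥ vecOf (i.val + 1))

theorem vecOf_actFun (M : GL (Fin 3) (ZMod 2)) (i : Fin 7) :
    vecOf ((actFun M i).val + 1) = (M : Matrix (Fin 3) (Fin 3) (ZMod 2)) *ᵥ vecOf (i.val + 1) :=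
  vec_facts.1 _ (mulVec_ne_zero M (vec_facts.2.1 i).2)

theorem actFun_mul (M N : GL (Fin 3) (ZMod 2)) (i : Fin 7) :
    actFun (M * N) i = actFun M (actFun N i) := by
  show _ = vecIdx _
  rw [vecOf_actFun, Matrix.mulVec_mulVec, ← Units.val_mul]
  rfl

theorem actFun_one (i : Fin 7) : actFun 1 i = i := by
  rw [actFun, Units.val_one, Matrix.one_mulVec, (vec_facts.2.1 i).1]

/-- The action of GL(3,2) on the seven indices. -/
def actHom : GL (Fin 3) (ZMod 2) →* Equiv.Perm (Fin 7) where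
  toFun M :=
    { toFun := actFun M
      invFun := actFun M⁻¹
      left_inv := fun i => by rw [← actFun_mul, inv_mul_cancel, actFun_one]
      right_inv := fun i => by rw [← actFun_mul, mul_inv_cancel, actFun_one] }
  map_one' := Equiv.ext actFun_one
  map_mul' M N := Equiv.ext (actFun_mul M N)

theorem actHom_mem (M : GL (Fin 3) (ZMod 2)) : actHom M ∈ lineGroup := by
  intro i j k
  rw [Bool.eq_iff_iff, vec_facts.2.2.1, vec_facts.2.2.1]
  show vecOf ((actFun M i).val + 1) + vecOf ((actFun M j).val + 1) = vecOf ((actFun M k).val + 1) ↔ _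
  rw [vecOf_actFun, vecOf_actFun, vecOf_actFun, ← Matrix.mulVec_add]
  exact (Matrix.mulVec_injective_iff_isUnit.mpr M.isUnit).eq_iff

theorem actHom_injective : Function.Injective actHom := by
  rw [injective_iff_map_eq_one]
  intro M hM
  refine Units.ext (Matrix.ext_of_mulVec_single fun c => ?_)
  obtain ⟨i, hi⟩ := vec_facts.2.2.2 c
  rw [← hi, ← vecOf_actFun, show actFun M i = i from Equiv.congr_fun hM i, Units.val_one,
    Matrix.one_mulVec]

theorem card_GL : Nat.card (GL (Fin 3) (ZMod 2)) = 168 := by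
  haveI : Fact (Nat.Prime 2) := ⟨Nat.prime_two⟩
  rw [Matrix.card_GL_field, ZMod.card, Fin.prod_univ_three]
  rfl

/-- GL(3,2) is the group of line-preserving permutations. -/
noncomputable def glEquiv : GL (Fin 3) (ZMod 2) ≃* ↥lineGroup :=
  MulEquiv.ofBijective (actHom.codRestrict lineGroup actHom_mem) (by
    have hinj : Function.Injective (actHom.codRestrict lineGroup actHom_mem) :=
      fun a b h => actHom_injective (congrArg Subtype.val h)
    exact hinj.bijective_of_nat_card_le (card_lineGroup_le.trans card_GL.ge))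

end Cfsg.Agent.Lib.Golay.Struct.Fano
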