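/-
Permutations of indices induced on an invariant indexed family.
-/
import Mathlib

set_option autoImplicit false

namespace Cfsg.Agent.Lib.Golay.Struct

variable {G X : Type*} [Group G] [MulAction G X] {n : ℕ} (R : Fin n → X)

/-- The index of the image. -/
noncomputable def idxImage {H : Subgroup G} (hR : ∀ g ∈ H, ∀ i, ∃ j, g • R i = R j) (g : ↥H)
    (i : Fin n) : Fin n :=
  (hR g.1 g.2 i).choose

theorem idxImage_spec {H : Subgroup G} (hR : ∀ g ∈ H, ∀ i, ∃ j, g • R i = R j) (g : ↥H) (i : Fin n) :
    g.1 • R i = R (idxImage R hR g i) :=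
  (hR g.1 g.2 i).choose_spec

/-- The induced permutations of the indices, as a homomorphism. -/
noncomputable def indexHom (hinj : Function.Injective R) {H : Subgroup G}
    (hR : ∀ g ∈ H, ∀ i, ∃ j, g • R i = R j) : ↥H →* Equiv.Perm (Fin n) where
  toFun g :=
    { toFun := idxImage R hR g
      invFun := idxImage R hR g⁻¹
      left_inv := fun i => hinj (by
        rw [← idxImage_spec R, ← idxImage_spec R, Subgroup.coe_inv, inv_smul_smul])
      right_inv := fun i => hinj (by
        rw [← idxImage_spec R, ← idxImage_spec R, Subgroup.coe_inv, smul_inv_smul]) }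
  map_one' := Equiv.ext fun i => hinj (by
    show R (idxImage R hR 1 i) = R i
    rw [← idxImage_spec R, Subgroup.coe_one, one_smul])
  map_mul' g h := Equiv.ext fun i => hinj (by
    show R (idxImage R hR (g * h) i) = R (idxImage R hR g (idxImage R hR h i))
    rw [← idxImage_spec R, ← idxImage_spec R, ← idxImage_spec R, Subgroup.coe_mul, mul_smul])

theorem indexHom_spec (hinj : Function.Injective R) {H : Subgroup G}
    (hR : ∀ g ∈ H, ∀ i, ∃ j, g • R i = R j) (g : ↥H) (i : Fin n) :
    g.1 • R i = R (indexHom R hinj hR g i) :=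
  idxImage_spec R hR g i

theorem indexHom_eq_iff (hinj : Function.Injective R) {H : Subgroup G}
    (hR : ∀ g ∈ H, ∀ i, ∃ j, g • R i = R j) (g : ↥H) (σ : Equiv.Perm (Fin n)) :
    indexHom R hinj hR g = σ ↔ ∀ i, g.1 • R i = R (σ i) := by
  refine ⟨fun h i => h ▸ indexHom_spec R hinj hR g i, fun h => Equiv.ext fun i => hinj ?_⟩
  rw [← indexHom_spec R, h i]

end Cfsg.Agent.Lib.Golay.Struct
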