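/-
The structure of a sextet stabiliser.
-/
import Cfsg.Agent.Lib.Golay.Struct.Common
import Cfsg.Agent.Lib.Golay.Suborbit.Sextet
import Cfsg.Agent.Lib.Golay.StabData.Sextet

set_option autoImplicit false
set_option maxRecDepth 100000

namespace Cfsg.Agent.Lib.Golay.Struct.Sextet

open Cfsg
open scoped Pointwise
open Cfsg.Agent.Lib.Golay.StabCert
open Cfsg.Agent.Lib.Golay.StabData.Sextet
open Cfsg.Agent.Lib.Golay.Orbits.Sextet (base)

theorem data_ok :
    kernelList.all (fun l => inM24 l && base.all fun m => imageMask l m == m) = true ∧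
    (kernelList.map normList).Nodup ∧ kernelList.length = 192 ∧
    (kernelList.filter sqOne).length = 64 ∧
    ((kernelList.filter sqOne).all fun a => (kernelList.filter sqOne).all fun b => commOk a b) = true := by
  decide +kernel

theorem swap_ok : swapList.all (fun x => inM24 x.2.2 &&
      (List.range 6).all fun k => imageMask x.2.2 (base.getD k 0) ==
        base.getD (if k = x.1 then x.2.1 else if k = x.2.1 then x.1 else k) 0) = true ∧
    (∀ i j : Fin 6, i.val < j.val → swapList.any (fun x => x.1 == i.val && x.2.1 == j.val) = true) ∧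
    base.length = 6 ∧ canonFam base = true := by
  decide +kernel

theorem base_mem : famOf base ∈ sextets :=
  Suborbit.Sextet.famOf_sextet (List.all_eq_true.mp Suborbit.Sextet.roots_ok
    (Orbits.Sextet.root0, Orbits.Sextet.tree0) List.mem_cons_self)

theorem card_stab {S : Finset (Finset GolayPt)} (hS : S ∈ sextets) :
    Nat.card (MulAction.stabilizer ↥M24 S) = 138240 := by
  obtain ⟨g, rfl⟩ := Suborbit.Sextet.transitive hS
  have h := card_stabilizer_mul (g • famOf base) sextets (by
    refine Set.Subset.antisymm ?_ fun X hX => ?_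
    · rintro _ ⟨k, rfl⟩; exact smul_sextet k hS
    · obtain ⟨k, rfl⟩ := Suborbit.Sextet.transitive hX
      exact ⟨k * g⁻¹, by
        show (k * g⁻¹) • g • famOf base = k • famOf base
        rw [mul_smul, inv_smul_smul]⟩)
  rw [ncard_sextets] at h
  omega

theorem surjective_base : Function.Surjective (memberPerm (famOf base)) := by
  rw [← MonoidHom.range_eq_top, eq_top_iff, ← Equiv.Perm.closure_isSwap, Subgroup.closure_le]
  rintro e ⟨a, b, hab, rfl⟩
  obtain ⟨ma, hma, ha⟩ := mem_famOf.mp a.2
  obtain ⟨mb, hmb, hb⟩ := mem_famOf.mp b.2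
  obtain ⟨i, hi, rfl⟩ := List.mem_iff_getElem.mp hma
  obtain ⟨j, hj, rfl⟩ := List.mem_iff_getElem.mp hmb
  have hl := swap_ok.2.2.1
  have main : ∀ (i j : ℕ) (a b : ↥(famOf base)) (hi : i < base.length) (hj : j < base.length),
      ptsOf base[i] = a.1 → ptsOf base[j] = b.1 → i < j →
      Equiv.swap a b ∈ (memberPerm (famOf base)).range := by
    intro i j a b hi hj ha hb hij
    obtain ⟨x, hx, hx'⟩ := List.any_eq_true.mp (swap_ok.2.1 ⟨i, by omega⟩ ⟨j, by omega⟩ hij)
    simp only [Bool.and_eq_true, beq_iff_eq] at hx'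
    have hxok := List.all_eq_true.mp swap_ok.1 x hx
    simp only [Bool.and_eq_true, List.all_eq_true, beq_iff_eq, hx'.1, hx'.2] at hxok
    obtain ⟨hv, hk⟩ := hxok
    have himg : ∀ k, k < base.length → rho x.2.2 • ptsOf (base.getD k 0)
        = ptsOf (base.getD (if k = i then j else if k = j then i else k) 0) := by
      intro k hk'
      rw [← hk k (List.mem_range.mpr (by omega))]
      exact maskCoding.move_den x.2.2 _ hv
    have hmem : ∀ k, k < base.length → ptsOf (base.getD k 0) ∈ famOf base := fun k hk' =>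
      mem_famOf.mpr ⟨_, by rw [List.getD_eq_getElem _ _ hk']; exact List.getElem_mem _, rfl⟩
    have hst : rho x.2.2 ∈ MulAction.stabilizer ↥M24 (famOf base) := by
      rw [MulAction.mem_stabilizer_iff]
      refine Finset.eq_of_subset_of_card_le (fun u hu => ?_) (Finset.card_smul_finset _ _).ge
      obtain ⟨t, ht, rfl⟩ := smul_mem_fam hu
      obtain ⟨m, hm, rfl⟩ := mem_famOf.mp ht
      obtain ⟨k, hk', rfl⟩ := List.mem_iff_getElem.mp hm
      rw [← List.getD_eq_getElem _ 0 hk', himg k hk']
      exact hmem _ (by split <;> [skip; split] <;> omega)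
    refine ⟨⟨_, hst⟩, Equiv.ext fun t => Subtype.ext ?_⟩
    rw [memberPerm_apply]
    obtain ⟨m, hm, ht⟩ := mem_famOf.mp t.2
    obtain ⟨k, hk', rfl⟩ := List.mem_iff_getElem.mp hm
    rw [← List.getD_eq_getElem _ 0 hk'] at ht
    rw [← List.getD_eq_getElem _ 0 hi] at ha
    rw [← List.getD_eq_getElem _ 0 hj] at hb
    show rho x.2.2 • t.1 = _
    rw [← ht, himg k hk']
    by_cases hki : k = i
    · subst hki
      have : t = a := Subtype.ext (ht.symm.trans ha)
      rw [if_pos rfl, this, Equiv.swap_apply_left, hb]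
    · rw [if_neg hki]
      have hinj : ∀ p q, p < base.length → q < base.length →
          ptsOf (base.getD p 0) = ptsOf (base.getD q 0) → p = q := by
        intro p q hp hq e
        obtain ⟨hpw, hlt⟩ := canonFam_spec swap_ok.2.2.2
        rw [List.getD_eq_getElem _ _ hp, List.getD_eq_getElem _ _ hq] at e
        exact (hpw.nodup.getElem_inj_iff).mp
          (ptsOf_injective (hlt _ (List.getElem_mem _)) (hlt _ (List.getElem_mem _)) e)
      by_cases hkj : k = j
      · subst hkj
        have : t = b := Subtype.ext (ht.symm.trans hb)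
        rw [if_pos rfl, this, Equiv.swap_apply_right, ha]
      · rw [if_neg hkj, Equiv.swap_apply_of_ne_of_ne, ht]
        · exact fun e => hki (hinj k i hk' hi ((ht.trans (congrArg Subtype.val e)).trans ha.symm))
        · exact fun e => hkj (hinj k j hk' hj ((ht.trans (congrArg Subtype.val e)).trans hb.symm))
  rcases lt_trichotomy i j with h | h | h
  · exact main i j a b hi hj ha hb h
  · subst h; exact absurd (Subtype.ext (ha.symm.trans hb)) hab
  · rw [Equiv.swap_comm]; exact main j i b a hj hi hb ha h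

theorem surjective {S : Finset (Finset GolayPt)} (hS : S ∈ sextets) :
    Function.Surjective (memberPerm S) := by
  obtain ⟨g, rfl⟩ := Suborbit.Sextet.transitive hS
  exact surjective_smul g surjective_base

theorem card_ker {S : Finset (Finset GolayPt)} (hS : S ∈ sextets) :
    Nat.card (memberPerm S).ker = 192 := by
  have h := (memberPerm S).ker.card_mul_index
  rw [Subgroup.index_ker, MonoidHom.range_eq_top.mpr (surjective hS), Subgroup.card_top,
    Nat.card_perm, Nat.card_eq_fintype_card (α := ↥S), Fintype.card_coe, hS.1, card_stab hS] at h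
  have : Nat.factorial 6 = 720 := by decide
  rw [this] at h
  omega

/-- The elements of the stabiliser of the base that fix each member. -/
def kerSet : Set ↥M24 := {g | g • famOf base = famOf base ∧ ∀ t ∈ famOf base, g • t = t}

theorem kerSet_eq : ∀ g ∈ kerSet, ∃ l ∈ kernelList, rho l = g := by
  have hv : ∀ l ∈ kernelList, inM24 l = true := fun l hl => by
    have := List.all_eq_true.mp data_ok.1 l hl
    simp only [Bool.and_eq_true] at this
    exact this.1
  refine list_exhausts hv (fun l hl => ?_) data_ok.2.1 ?_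
  · have := List.all_eq_true.mp data_ok.1 l hl
    simp only [Bool.and_eq_true, List.all_eq_true, beq_iff_eq] at this
    have hfix : ∀ t ∈ famOf base, rho l • t = t := by
      intro t ht
      obtain ⟨m, hm, rfl⟩ := mem_famOf.mp ht
      conv_rhs => rw [← this.2 m hm]
      exact maskCoding.move_den l m (hv l hl)
    refine ⟨?_, hfix⟩
    refine Finset.eq_of_subset_of_card_le (fun u hu => ?_) (Finset.card_smul_finset _ _).ge
    obtain ⟨t, ht, rfl⟩ := smul_mem_fam hu
    rwa [hfix t ht]
  · rw [data_ok.2.2.1, ← card_ker base_mem]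
    have e : kerSet = (fun g : ↥(memberPerm (famOf base)).ker => g.1.1) '' Set.univ := by
      ext g
      constructor
      · rintro ⟨h1, h2⟩
        exact ⟨⟨⟨g, h1⟩, (mem_ker_memberPerm _ _).mpr h2⟩, trivial, rfl⟩
      · rintro ⟨k, -, rfl⟩
        exact ⟨k.1.2, (mem_ker_memberPerm _ _).mp k.2⟩
    rw [e]
    exact (Set.ncard_image_le Set.finite_univ).trans (by rw [Set.ncard_univ])

/-- The normal subgroup of order 64 of the stabiliser of the base. -/
def radicalBase : Subgroup ↥(MulAction.stabilizer ↥M24 (famOf base)) where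
  carrier := {x | x.1 ∈ kerSet ∧ x * x = 1}
  one_mem' := ⟨⟨one_smul _ _, fun t _ => one_smul _ t⟩, mul_one 1⟩
  mul_mem' := by
    intro x y hx hy
    obtain ⟨a, ha, ea⟩ := kerSet_eq _ hx.1
    obtain ⟨b, hb, eb⟩ := kerSet_eq _ hy.1
    have hva : inM24 a = true := by
      have := List.all_eq_true.mp data_ok.1 a ha
      simp only [Bool.and_eq_true] at this
      exact this.1
    have hvb : inM24 b = true := by
      have := List.all_eq_true.mp data_ok.1 b hb
      simp only [Bool.and_eq_true] at this
      exact this.1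
    have sa : sqOne a = true := (sqOne_iff hva).mpr (by rw [ea]; exact congrArg Subtype.val hx.2)
    have sb : sqOne b = true := (sqOne_iff hvb).mpr (by rw [eb]; exact congrArg Subtype.val hy.2)
    have hc := List.all_eq_true.mp (List.all_eq_true.mp data_ok.2.2.2.2 a
      (List.mem_filter.mpr ⟨ha, sa⟩)) b (List.mem_filter.mpr ⟨hb, sb⟩)
    have hcomm : x * y = y * x := Subtype.ext (by
      rw [Subgroup.coe_mul, Subgroup.coe_mul, ← ea, ← eb]
      exact (commOk_iff hva hvb).mp hc)
    refine ⟨⟨(x * y).2, fun t ht => ?_⟩, ?_⟩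
    · rw [Subgroup.coe_mul, mul_smul, hy.1.2 t ht, hx.1.2 t ht]
    · rw [mul_assoc, ← mul_assoc y, ← hcomm, mul_assoc x, hy.2, mul_one, hx.2]
  inv_mem' := by
    intro x hx
    refine ⟨⟨(x⁻¹).2, fun t ht => ?_⟩, by rw [← mul_inv_rev, hx.2, inv_one]⟩
    rw [Subgroup.coe_inv, inv_smul_eq_iff, hx.1.2 t ht]

theorem radicalBase_normal : radicalBase.Normal := by
  refine ⟨fun x hx g => ⟨⟨(g * x * g⁻¹).2, fun t ht => ?_⟩, ?_⟩⟩
  · have ht' : g.1⁻¹ • t ∈ famOf base :=
      smul_mem_of_fix (MulAction.mem_stabilizer_iff.mp (inv_mem g.2)) ht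
    rw [Subgroup.coe_mul, Subgroup.coe_mul, Subgroup.coe_inv, mul_smul, mul_smul, hx.1.2 _ ht',
      smul_inv_smul]
  · have h : g * x * g⁻¹ * (g * x * g⁻¹) = g * (x * x) * g⁻¹ := by group
    rw [h, hx.2, mul_one, mul_inv_cancel]

theorem card_radicalBase : Nat.card radicalBase = 64 := by
  classical
  have hv : ∀ l ∈ kernelList, inM24 l = true := fun l hl => by
    have := List.all_eq_true.mp data_ok.1 l hl
    simp only [Bool.and_eq_true] at this
    exact this.1
  have hfix : ∀ l ∈ kernelList, rho l ∈ kerSet := fun l hl => by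
    have := List.all_eq_true.mp data_ok.1 l hl
    simp only [Bool.and_eq_true, List.all_eq_true, beq_iff_eq] at this
    have h : ∀ t ∈ famOf base, rho l • t = t := by
      intro t ht
      obtain ⟨m, hm, rfl⟩ := mem_famOf.mp ht
      conv_rhs => rw [← this.2 m hm]
      exact maskCoding.move_den l m (hv l hl)
    refine ⟨Finset.eq_of_subset_of_card_le (fun u hu => ?_) (Finset.card_smul_finset _ _).ge, h⟩
    obtain ⟨t, ht, rfl⟩ := smul_mem_fam hu
    rwa [h t ht]
  have hnd : ((kernelList.filter sqOne).map rho).Nodup :=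
    ((List.Nodup.of_map normList data_ok.2.1).filter sqOne).map_on fun a ha b hb e =>
      List.inj_on_of_nodup_map data_ok.2.1 (List.mem_filter.mp ha).1 (List.mem_filter.mp hb).1
        ((rho_eq_iff (hv a (List.mem_filter.mp ha).1) (hv b (List.mem_filter.mp hb).1)).mp e)
  have e : (fun x : ↥radicalBase => x.1.1) '' Set.univ
      = ↑((kernelList.filter sqOne).map rho).toFinset := by
    ext g
    simp only [Set.mem_image, Set.mem_univ, true_and, List.coe_toFinset, List.mem_map,
      List.mem_filter, Set.mem_ofPred_eq]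
    constructor
    · rintro ⟨x, rfl⟩
      obtain ⟨l, hl, el⟩ := kerSet_eq _ x.2.1
      exact ⟨l, ⟨hl, (sqOne_iff (hv l hl)).mpr (by rw [el]; exact congrArg Subtype.val x.2.2)⟩, el⟩
    · rintro ⟨l, ⟨hl, hs⟩, rfl⟩
      exact ⟨⟨⟨rho l, (hfix l hl).1⟩, hfix l hl, Subtype.ext ((sqOne_iff (hv l hl)).mp hs)⟩, rfl⟩
  have h := congrArg Set.ncard e
  rw [Set.InjOn.ncard_image (fun a _ b _ h => Subtype.ext (Subtype.ext h)), Set.ncard_univ,
    Set.ncard_coe_finset, List.toFinset_card_of_nodup hnd, List.length_map, data_ok.2.2.2.1] at h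
  exact h

theorem exists_radical {S : Finset (Finset GolayPt)} (hS : S ∈ sextets) :
    ∃ N : Subgroup ↥(MulAction.stabilizer ↥M24 S), N.Normal ∧ Nat.card N = 64 ∧ ∀ x ∈ N, x * x = 1 := by
  obtain ⟨g, hg⟩ := Suborbit.Sextet.transitive hS
  let φ := MulAction.stabilizerEquivStabilizer (g := g) (a := famOf base) (b := S) hg.symm
  refine ⟨radicalBase.map φ.toMonoidHom, radicalBase_normal.map _ φ.surjective, ?_, ?_⟩
  · rw [← Nat.card_congr (Subgroup.equivMapOfInjective radicalBase φ.toMonoidHom φ.injective).toEquiv,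
      card_radicalBase]
  · rintro _ ⟨x, hx, rfl⟩
    rw [← map_mul, hx.2, map_one]

end Cfsg.Agent.Lib.Golay.Struct.Sextet
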