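/-
The structure of a trio stabiliser: an elementary abelian normal subgroup of order 64 with
quotient GL(3,2) × S3.
-/
import Cfsg.Agent.Lib.Golay.Struct.Common
import Cfsg.Agent.Lib.Golay.Struct.Fano
import Cfsg.Agent.Lib.Golay.Struct.Index
import Cfsg.Agent.Lib.Golay.Suborbit.Trio
import Cfsg.Agent.Lib.Golay.Suborbit.Sextet
import Cfsg.Agent.Lib.Golay.StabData.Trio

set_option autoImplicit false
set_option maxRecDepth 1000000

namespace Cfsg.Agent.Lib.Golay.Struct.Trio

open Cfsg
open scoped Pointwise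
open Cfsg.Agent.Lib.Orbit
open Cfsg.Agent.Lib.Golay.StabCert
open Cfsg.Agent.Lib.Golay.StabData.Trio
open Cfsg.Agent.Lib.Golay.Orbits.Trio (base)

/-- The base trio. -/
abbrev T0 : Finset (Finset GolayPt) := famOf base

/-- The code of a sextet refining the base trio. -/
def rCode (i : Fin 7) : List ℕ := sextetList.getD i.val []

/-- The code of an octad of the base trio. -/
def oCode (i : Fin 3) : ℕ := base.getD i.val 0

/-- The seven sextets. -/
def refSextet (i : Fin 7) : Finset (Finset GolayPt) := famOf (rCode i)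

/-- The three octads. -/
def octadAt (i : Fin 3) : Finset GolayPt := ptsOf (oCode i)

/-- The test for refining the base trio. -/
def refines (c : List ℕ) : Bool := c.all fun m => base.any fun o => m &&& o == m

/-- The sextets refining the base trio. -/
def refining : Set (Finset (Finset GolayPt)) :=
  {S | S ∈ sextets ∧ ∀ t ∈ S, ∃ o ∈ T0, t ⊆ o}

theorem refining_smul {g : ↥M24} (hg : g • T0 = T0) {S : Finset (Finset GolayPt)}
    (hS : S ∈ refining) : g • S ∈ refining := by
  refine ⟨smul_sextet g hS.1, fun u hu => ?_⟩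
  obtain ⟨t, ht, rfl⟩ := smul_mem_fam hu
  obtain ⟨o, ho, hto⟩ := hS.2 t ht
  exact ⟨g • o, smul_mem_of_fix hg ho, Finset.smul_finset_subset_smul_finset hto⟩

theorem sextet_nodes_check :
    (Orbits.Sextet.orbits.flatMap Coding.orbCodes).all (fun c =>
      !refines c || sextetList.contains c) = true ∧
    sextetList.all (fun c => refines c && Suborbit.Sextet.isSextetCode c) = true ∧
    sextetList.length = 7 ∧ sextetList.Nodup ∧ base.all (fun o => decide (o < 2 ^ 24)) = true ∧
    (Orbits.Sextet.orbits.flatMap Coding.orbCodes).all (fun c => canonFam c) = true := by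
  decide +kernel

theorem rCode_mem (i : Fin 7) : rCode i ∈ sextetList := by
  rw [rCode, List.getD_eq_getElem _ _ (by rw [sextet_nodes_check.2.2.1]; exact i.isLt)]
  exact List.getElem_mem _

theorem rCode_canon (i : Fin 7) : canonFam (rCode i) = true := by
  have := List.all_eq_true.mp sextet_nodes_check.2.1 _ (rCode_mem i)
  simp only [Bool.and_eq_true, Suborbit.Sextet.isSextetCode] at this
  exact this.2.1.1.1

theorem refSextet_mem (i : Fin 7) : refSextet i ∈ refining := by
  have h := List.all_eq_true.mp sextet_nodes_check.2.1 _ (rCode_mem i)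
  simp only [Bool.and_eq_true] at h
  refine ⟨Suborbit.Sextet.famOf_sextet h.2, fun t ht => ?_⟩
  obtain ⟨m, hm, rfl⟩ := mem_famOf.mp ht
  obtain ⟨o, ho, ho'⟩ := List.any_eq_true.mp (List.all_eq_true.mp h.1 m hm)
  refine ⟨ptsOf o, mem_famOf.mpr ⟨o, ho, rfl⟩, ?_⟩
  rw [← Finset.inter_eq_left, ← ptsOf_land, beq_iff_eq.mp ho']

theorem refSextet_injective : Function.Injective refSextet := by
  intro i j h
  have e := famOf_injOn (rCode_canon i) (rCode_canon j) h
  rw [rCode, rCode, List.getD_eq_getElem _ _ (by rw [sextet_nodes_check.2.2.1]; exact i.isLt),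
    List.getD_eq_getElem _ _ (by rw [sextet_nodes_check.2.2.1]; exact j.isLt)] at e
  exact Fin.ext (sextet_nodes_check.2.2.2.1.getElem_inj_iff.mp e)

theorem exists_refSextet {S : Finset (Finset GolayPt)} (hS : S ∈ refining) :
    ∃ i, S = refSextet i := by
  have h := hS.1
  rw [Suborbit.Sextet.decomp.codes_eq] at h
  obtain ⟨c, hc, rfl⟩ := h
  have hr : refines c = true := by
    rw [refines, List.all_eq_true]
    intro m hm
    obtain ⟨o, ho, hsub⟩ := hS.2 (ptsOf m) (mem_famOf.mpr ⟨m, hm, rfl⟩)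
    obtain ⟨k, hk, rfl⟩ := mem_famOf.mp ho
    refine List.any_eq_true.mpr ⟨k, hk, beq_iff_eq.mpr ?_⟩
    have hm24 := (canonFam_spec (List.all_eq_true.mp sextet_nodes_check.2.2.2.2.2 c hc)).2 m hm
    refine ptsOf_injective (lt_of_le_of_lt Nat.and_le_left hm24) hm24 ?_
    rw [ptsOf_land, Finset.inter_eq_left.mpr hsub]
  have := List.all_eq_true.mp sextet_nodes_check.1 c hc
  rw [hr, Bool.not_true, Bool.false_or] at this
  obtain ⟨k, hk, rfl⟩ := List.mem_iff_getElem.mp (List.contains_iff_mem.mp this)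
  refine ⟨⟨k, sextet_nodes_check.2.2.1 ▸ hk⟩, ?_⟩
  show famOf sextetList[k] = famOf (rCode _)
  rw [rCode, List.getD_eq_getElem _ _ hk]

/-- The stabiliser of the base trio. -/
abbrev H0 : Subgroup ↥M24 := MulAction.stabilizer ↥M24 T0

theorem closed_sextets : ∀ g ∈ H0, ∀ i, ∃ j, g • refSextet i = refSextet j := fun _ hg i =>
  exists_refSextet (refining_smul (MulAction.mem_stabilizer_iff.mp hg) (refSextet_mem i))

theorem base_facts : base.length = 3 ∧ canonFam base = true := by decide +kernel

theorem octadAt_injective : Function.Injective octadAt := by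
  intro i j h
  obtain ⟨hp, hlt⟩ := canonFam_spec base_facts.2
  have hi : i.val < base.length := lt_of_lt_of_eq i.isLt base_facts.1.symm
  have hj : j.val < base.length := lt_of_lt_of_eq j.isLt base_facts.1.symm
  rw [octadAt, octadAt, oCode, oCode, List.getD_eq_getElem _ _ hi, List.getD_eq_getElem _ _ hj] at h
  exact Fin.ext (hp.nodup.getElem_inj_iff.mp
    (ptsOf_injective (hlt _ (List.getElem_mem _)) (hlt _ (List.getElem_mem _)) h))

theorem octadAt_mem (i : Fin 3) : octadAt i ∈ T0 :=
  mem_famOf.mpr ⟨_, by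
    rw [oCode, List.getD_eq_getElem _ _ (lt_of_lt_of_eq i.isLt base_facts.1.symm)]; exact List.getElem_mem _, rfl⟩

theorem closed_octads : ∀ g ∈ H0, ∀ i, ∃ j, g • octadAt i = octadAt j := by
  intro g hg i
  obtain ⟨m, hm, e⟩ := mem_famOf.mp
    (smul_mem_of_fix (MulAction.mem_stabilizer_iff.mp hg) (octadAt_mem i))
  obtain ⟨k, hk, rfl⟩ := List.mem_iff_getElem.mp hm
  exact ⟨⟨k, lt_of_lt_of_eq hk base_facts.1⟩, by rw [← e, octadAt, oCode, List.getD_eq_getElem _ _ hk]⟩

/-- The action on the seven sextets. -/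
noncomputable def sextetHom : ↥H0 →* Equiv.Perm (Fin 7) :=
  indexHom refSextet refSextet_injective closed_sextets

/-- The action on the three octads. -/
noncomputable def octadHom : ↥H0 →* Equiv.Perm (Fin 3) :=
  indexHom octadAt octadAt_injective closed_octads

/-- Three families have members with exactly two points in common. -/
def Coll (a b c : Finset (Finset GolayPt)) : Prop :=
  ∃ t ∈ a, ∃ u ∈ b, ∃ w ∈ c, (t ∩ u ∩ w).card = 2

theorem coll_smul (g : ↥M24) (a b c : Finset (Finset GolayPt)) :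
    Coll (g • a) (g • b) (g • c) ↔ Coll a b c := by
  constructor
  · rintro ⟨_, ht, _, hu, _, hw, h⟩
    obtain ⟨t, ht', rfl⟩ := smul_mem_fam ht
    obtain ⟨u, hu', rfl⟩ := smul_mem_fam hu
    obtain ⟨w, hw', rfl⟩ := smul_mem_fam hw
    rw [← Finset.smul_finset_inter, ← Finset.smul_finset_inter, Finset.card_smul_finset] at h
    exact ⟨t, ht', u, hu', w, hw', h⟩
  · rintro ⟨t, ht, u, hu, w, hw, h⟩
    refine ⟨_, Finset.smul_mem_smul_finset ht, _, Finset.smul_mem_smul_finset hu, _,
      Finset.smul_mem_smul_finset hw, ?_⟩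
    rw [← Finset.smul_finset_inter, ← Finset.smul_finset_inter, Finset.card_smul_finset, h]

/-- A computation of `Coll` on codes. -/
def collCode (a b c : List ℕ) : Bool :=
  a.any fun t => b.any fun u => c.any fun w => popCount (t &&& u &&& w) == 2

theorem coll_code (a b c : List ℕ) : Coll (famOf a) (famOf b) (famOf c) ↔ collCode a b c = true := by
  simp [Coll, collCode, mem_famOf, ← ptsOf_land, card_ptsOf, Nat.land_assoc, Finset.inter_assoc]

theorem line_table : ∀ i j k : Fin 7, Fano.line i j k =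
    (decide (i ≠ j ∧ i ≠ k ∧ j ≠ k) && collCode (rCode i) (rCode j) (rCode k)) := by
  decide +kernel

theorem sextetHom_mem (g : ↥H0) : sextetHom g ∈ Fano.lineGroup := by
  intro i j k
  set σ := sextetHom g with hσ
  rw [line_table, line_table, Bool.eq_iff_iff]
  simp only [Bool.and_eq_true, decide_eq_true_eq, ← coll_code, ne_eq, σ.injective.eq_iff]
  refine and_congr_right fun _ => ?_
  show Coll (refSextet (σ i)) (refSextet (σ j)) (refSextet (σ k)) ↔
    Coll (refSextet i) (refSextet j) (refSextet k)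
  rw [hσ, sextetHom, ← indexHom_spec refSextet, ← indexHom_spec refSextet,
    ← indexHom_spec refSextet, coll_smul]

/-- The map to GL(3,2) × S3. -/
noncomputable def theta : ↥H0 →* GL (Fin 3) (ZMod 2) × Equiv.Perm (Fin 3) :=
  (Fano.glEquiv.symm.toMonoidHom.comp (sextetHom.codRestrict Fano.lineGroup sextetHom_mem)).prod
    octadHom

theorem list_ok :
    (linList.all fun x => inM24 x.2 && (base.all fun m => imageMask x.2 m == m) &&
      decide (∀ i : Fin 7, famCoding.eqv ((rCode i).map (imageMask x.2))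
        (rCode ⟨x.1.getD i.val 0 % 7, Nat.mod_lt _ (Nat.succ_pos 6)⟩) = true)) = true ∧
    (∀ t ∈ Fano.bases, linList.any (fun x => x.1.getD 0 0 == t.1.val && x.1.getD 1 0 == t.2.1.val &&
      x.1.getD 3 0 == t.2.2.val) = true) ∧
    (∀ π : Equiv.Perm (Fin 3), octList.any (fun x => inM24 x.2 &&
      decide (∀ i : Fin 3, imageMask x.2 (oCode i) = oCode (π i)) &&
      decide (∀ i : Fin 7, famCoding.eqv ((rCode i).map (imageMask x.2)) (rCode i) = true)) = true) := by
  decide +kernel

theorem rho_mem_H0 {l : List ℕ} (hv : inM24 l = true)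
    (h : ∀ m ∈ base, imageMask l m ∈ base) : rho l ∈ H0 := by
  rw [MulAction.mem_stabilizer_iff]
  refine Finset.eq_of_subset_of_card_le (fun u hu => ?_) (Finset.card_smul_finset _ _).ge
  obtain ⟨t, ht, rfl⟩ := smul_mem_fam hu
  obtain ⟨m, hm, rfl⟩ := mem_famOf.mp ht
  exact mem_famOf.mpr ⟨_, h m hm, (maskCoding.move_den l m hv).symm⟩

theorem theta_surjective : Function.Surjective theta := by
  rintro ⟨M, π⟩
  obtain ⟨x, hx, hxk⟩ := List.any_eq_true.mp
    (list_ok.2.1 _ (Fano.triple_mem (Fano.glEquiv M).2))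
  simp only [Bool.and_eq_true, beq_iff_eq, Fano.triple] at hxk
  have hxo := List.all_eq_true.mp list_ok.1 x hx
  simp only [Bool.and_eq_true, List.all_eq_true, beq_iff_eq, decide_eq_true_eq] at hxo
  obtain ⟨⟨hxv, hxb⟩, hxs⟩ := hxo
  have hxH : rho x.2 ∈ H0 := rho_mem_H0 hxv fun m hm => by rw [hxb m hm]; exact hm
  have a1 : theta ⟨rho x.2, hxH⟩ = (M, 1) := by
    refine Prod.ext ?_ ?_
    · show Fano.glEquiv.symm _ = M
      rw [MulEquiv.symm_apply_eq]
      refine Subtype.ext (Fano.eq_of_triple (sextetHom_mem _) (Fano.glEquiv M).2 ?_)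
      have key : ∀ i : Fin 7, sextetHom ⟨rho x.2, hxH⟩ i = ⟨x.1.getD i.val 0 % 7, Nat.mod_lt _ (Nat.succ_pos 6)⟩ := by
        intro i
        apply refSextet_injective
        rw [sextetHom, ← indexHom_spec refSextet]
        exact (famCoding.move_den x.2 _ hxv).trans (famCoding.eqv_sound _ _ (hxs i))
      show Fano.triple (sextetHom ⟨rho x.2, hxH⟩) = Fano.triple (Fano.glEquiv M).1
      simp only [Fano.triple, key, Prod.mk.injEq, Fin.ext_iff]
      refine ⟨?_, ?_, ?_⟩
      · show x.1.getD 0 0 % 7 = _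
        rw [hxk.1.1]; exact Nat.mod_eq_of_lt (Fin.isLt _)
      · show x.1.getD 1 0 % 7 = _
        rw [hxk.1.2]; exact Nat.mod_eq_of_lt (Fin.isLt _)
      · show x.1.getD 3 0 % 7 = _
        rw [hxk.2]; exact Nat.mod_eq_of_lt (Fin.isLt _)
    · show octadHom ⟨rho x.2, hxH⟩ = 1
      rw [octadHom, indexHom_eq_iff]
      intro i
      refine (maskCoding.move_den x.2 _ hxv).trans ?_
      show ptsOf (imageMask x.2 (oCode i)) = ptsOf (oCode i)
      rw [hxb (oCode i) (by
        rw [oCode, List.getD_eq_getElem _ _ (lt_of_lt_of_eq i.isLt base_facts.1.symm)]; exact List.getElem_mem _)]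
  obtain ⟨y, hy, hyk⟩ := List.any_eq_true.mp (list_ok.2.2 π)
  simp only [Bool.and_eq_true, decide_eq_true_eq] at hyk
  obtain ⟨⟨hyv, hyo⟩, hys⟩ := hyk
  have hyH : rho y.2 ∈ H0 := rho_mem_H0 hyv fun m hm => by
    obtain ⟨k, hk, rfl⟩ := List.mem_iff_getElem.mp hm
    have := hyo ⟨k, lt_of_lt_of_eq hk base_facts.1⟩
    simp only [oCode] at this
    rw [← List.getD_eq_getElem _ 0 hk, this,
      List.getD_eq_getElem _ _ (lt_of_lt_of_eq (π _).isLt base_facts.1.symm)]
    exact List.getElem_mem _
  have a2 : theta ⟨rho y.2, hyH⟩ = (1, π) := by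
    refine Prod.ext ?_ ?_
    · show Fano.glEquiv.symm _ = 1
      rw [MulEquiv.symm_apply_eq, map_one]
      refine Subtype.ext ?_
      show sextetHom ⟨rho y.2, hyH⟩ = 1
      rw [sextetHom, indexHom_eq_iff]
      exact fun i => (famCoding.move_den y.2 _ hyv).trans (famCoding.eqv_sound _ _ (hys i))
    · show octadHom ⟨rho y.2, hyH⟩ = π
      rw [octadHom, indexHom_eq_iff]
      intro i
      refine (maskCoding.move_den y.2 _ hyv).trans ?_
      show ptsOf (imageMask y.2 (oCode i)) = ptsOf (oCode (π i))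
      rw [hyo i]
  exact ⟨⟨rho x.2, hxH⟩ * ⟨rho y.2, hyH⟩, by rw [map_mul, a1, a2, Prod.mk_mul_mk, mul_one, one_mul]⟩

theorem base_mem : T0 ∈ trios :=
  Suborbit.Trio.famOf_trio (List.all_eq_true.mp Suborbit.Trio.roots_ok
    (Orbits.Trio.root0, Orbits.Trio.tree0) List.mem_cons_self)

theorem card_stab {T : Finset (Finset GolayPt)} (hT : T ∈ trios) :
    Nat.card (MulAction.stabilizer ↥M24 T) = 64512 := by
  obtain ⟨g, rfl⟩ := Suborbit.Trio.transitive hT
  have h := card_stabilizer_mul (g • famOf base) trios (by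
    refine Set.Subset.antisymm ?_ fun X hX => ?_
    · rintro _ ⟨k, rfl⟩; exact smul_trio k hT
    · obtain ⟨k, rfl⟩ := Suborbit.Trio.transitive hX
      exact ⟨k * g⁻¹, by
        show (k * g⁻¹) • g • famOf base = k • famOf base
        rw [mul_smul, inv_smul_smul]⟩)
  rw [ncard_trios] at h
  omega

theorem card_ker : Nat.card theta.ker = 64 := by
  have h := theta.ker.card_mul_index
  rw [Subgroup.index_ker, MonoidHom.range_eq_top.mpr theta_surjective, Subgroup.card_top,
    Nat.card_prod, Fano.card_GL, Nat.card_perm, Nat.card_fin, card_stab base_mem] at h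
  have : Nat.factorial 3 = 6 := by decide
  rw [this] at h
  omega

theorem kernel_ok :
    kernelList.all (fun l => inM24 l && (base.all fun m => imageMask l m == m) &&
      decide (∀ i : Fin 7, famCoding.eqv ((rCode i).map (imageMask l)) (rCode i) = true) &&
      sqOne l) = true ∧
    (kernelList.map normList).Nodup ∧ kernelList.length = 64 := by
  decide +kernel

theorem ker_sq (x : ↥H0) (hx : x ∈ theta.ker) : x * x = 1 := by
  have hv : ∀ l ∈ kernelList, inM24 l = true := fun l hl => by
    have := List.all_eq_true.mp kernel_ok.1 l hl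
    simp only [Bool.and_eq_true] at this
    exact this.1.1.1
  have hP : ∀ g ∈ (fun k : ↥theta.ker => k.1.1) '' Set.univ, ∃ l ∈ kernelList, rho l = g := by
    refine list_exhausts hv (fun l hl => ?_) kernel_ok.2.1 ?_
    · have := List.all_eq_true.mp kernel_ok.1 l hl
      simp only [Bool.and_eq_true, List.all_eq_true, beq_iff_eq, decide_eq_true_eq] at this
      obtain ⟨⟨⟨-, hb⟩, hs⟩, -⟩ := this
      have hlH : rho l ∈ H0 := rho_mem_H0 (hv l hl) fun m hm => by rw [hb m hm]; exact hm
      refine ⟨⟨⟨rho l, hlH⟩, ?_⟩, trivial, rfl⟩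
      rw [MonoidHom.mem_ker]
      refine Prod.ext ?_ ?_
      · show Fano.glEquiv.symm _ = 1
        rw [MulEquiv.symm_apply_eq, map_one]
        refine Subtype.ext ?_
        show sextetHom ⟨rho l, hlH⟩ = 1
        rw [sextetHom, indexHom_eq_iff]
        exact fun i => (famCoding.move_den l _ (hv l hl)).trans (famCoding.eqv_sound _ _ (hs i))
      · show octadHom ⟨rho l, hlH⟩ = 1
        rw [octadHom, indexHom_eq_iff]
        intro i
        refine (maskCoding.move_den l _ (hv l hl)).trans ?_
        show ptsOf (imageMask l (oCode i)) = ptsOf (oCode i)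
        rw [hb (oCode i) (by
          rw [oCode, List.getD_eq_getElem _ _ (lt_of_lt_of_eq i.isLt base_facts.1.symm)]; exact List.getElem_mem _)]
    · rw [kernel_ok.2.2, ← card_ker]
      exact (Set.ncard_image_le Set.finite_univ).trans (by rw [Set.ncard_univ])
  obtain ⟨l, hl, el⟩ := hP x.1 ⟨⟨x, hx⟩, trivial, rfl⟩
  have hsq := List.all_eq_true.mp kernel_ok.1 l hl
  simp only [Bool.and_eq_true] at hsq
  refine Subtype.ext ?_
  rw [Subgroup.coe_mul, ← el]
  exact (sqOne_iff (hv l hl)).mp hsq.2

theorem structure_exists {T : Finset (Finset GolayPt)} (hT : T ∈ trios) :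
    ∃ (N : Subgroup ↥(MulAction.stabilizer ↥M24 T)) (_ : N.Normal), Nat.card N = 64 ∧
      (∀ x ∈ N, x * x = 1) ∧
      Nonempty (↥(MulAction.stabilizer ↥M24 T) ⧸ N ≃* GL (Fin 3) (ZMod 2) × Equiv.Perm (Fin 3)) := by
  obtain ⟨g, hg⟩ := Suborbit.Trio.transitive hT
  let φ := MulAction.stabilizerEquivStabilizer (g := g) (a := T0) (b := T) hg.symm
  let θ := theta.comp φ.symm.toMonoidHom
  have hsurj : Function.Surjective θ := theta_surjective.comp φ.symm.surjective
  refine ⟨θ.ker, inferInstance, ?_, fun x hx => ?_,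
    ⟨QuotientGroup.quotientKerEquivOfSurjective θ hsurj⟩⟩
  · have h := θ.ker.card_mul_index
    rw [Subgroup.index_ker, MonoidHom.range_eq_top.mpr hsurj, Subgroup.card_top,
      Nat.card_prod, Fano.card_GL, Nat.card_perm, Nat.card_fin, card_stab hT] at h
    have : Nat.factorial 3 = 6 := by decide
    rw [this] at h
    omega
  · apply φ.symm.injective
    rw [map_mul, map_one]
    exact ker_sq _ hx

theorem surjective_octads {T : Finset (Finset GolayPt)} (hT : T ∈ trios) :
    Function.Surjective (memberPerm T) := by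
  obtain ⟨g, rfl⟩ := Suborbit.Trio.transitive hT
  refine surjective_smul g fun e => ?_
  let o : Fin 3 ≃ ↥T0 := Equiv.ofBijective (fun i => ⟨octadAt i, octadAt_mem i⟩) (by
    refine (Fintype.bijective_iff_injective_and_card _).mpr
      ⟨fun i j h => octadAt_injective (congrArg Subtype.val h), ?_⟩
    rw [Fintype.card_fin, Fintype.card_coe, base_mem.1])
  obtain ⟨x, hx⟩ := theta_surjective (1, o.trans (e.trans o.symm))
  refine ⟨x, Equiv.ext fun t => Subtype.ext ?_⟩
  obtain ⟨i, rfl⟩ := o.surjective t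
  have h2 : octadHom x = o.trans (e.trans o.symm) := congrArg Prod.snd hx
  rw [memberPerm_apply]
  show x.1 • octadAt i = _
  rw [indexHom_spec octadAt octadAt_injective closed_octads x i]
  show octadAt (octadHom x i) = _
  rw [h2]
  show (o (o.symm (e (o i)))).1 = _
  rw [Equiv.apply_symm_apply]

end Cfsg.Agent.Lib.Golay.Struct.Trio
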